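import Cfsg.Agent.Solvable.Basics

/-!
Wielandt's theorem on joins of subnormal subgroups and the zipper lemma.
-/

set_option autoImplicit false

namespace Cfsg.Agent.Subnormal.Join

open scoped Pointwise
open Cfsg.Agent.Coprime

variable {G : Type*} [Group G]

theorem le_normalizer_of_isSubnormal_aux :
    ∀ (n : ℕ) {G : Type*} [Group G] [Finite G], Nat.card G = n →
      ∀ (S M : Subgroup G), S.IsSubnormal → M.Normal → M ≠ ⊥ →
        (∀ L : Subgroup G, L.Normal → L ≤ M → L = ⊥ ∨ L = M) →
          M ≤ Subgroup.normalizer (S : Set G) := by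
  intro n
  induction n using Nat.strongRecOn with | ind n ih => ?_
  intro G _ _ hn S M hS hMn hM hmin
  rcases hS.lt_normal with rfl | ⟨N, hNn, hSN, hN⟩
  · exact le_top.trans Subgroup.le_normalizer
  by_cases hMN : M ⊓ N = ⊥
  · refine le_trans ?_ (Subgroup.centralizer_le_normalizer _)
    refine le_trans ?_ (Subgroup.centralizer_le hSN)
    exact Subgroup.commutator_eq_bot_iff_le_centralizer.mp
      (Subgroup.commutator_eq_bot_of_disjoint (disjoint_iff.mpr hMN))
  have hMleN : M ≤ N := inf_eq_left.mp ((hmin _ inferInstance inf_le_left).resolve_left hMN)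
  have hMne : M.subgroupOf N ≠ ⊥ := by
    rw [Ne, Subgroup.subgroupOf_eq_bot, disjoint_iff, inf_eq_left.mpr hMleN]
    exact hM
  have : (M.subgroupOf N).Normal := hMn.comap _
  obtain ⟨M₁, hM₁n, hM₁le, hM₁, hM₁min⟩ := Cfsg.Agent.Solvable.Basics.exists_minimal_normal hMne
  have hlt : Nat.card N < n := hn ▸ lt_of_le_of_ne (Subgroup.card_le_card_group N)
    fun h => hN.ne (Subgroup.eq_top_of_card_eq N h)
  let R := Subgroup.normalClosure ((M₁.map N.subtype : Subgroup G) : Set G)
  have hRM : R ≤ M := Subgroup.normalClosure_le_normal fun x hx => by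
    obtain ⟨y, hy, rfl⟩ := hx
    exact hM₁le hy
  have hR : R = M := (hmin R inferInstance hRM).resolve_left fun h => hM₁ (by
    rw [← Subgroup.map_eq_bot_iff_of_injective (f := N.subtype) _ Subtype.coe_injective,
      ← le_bot_iff, ← h]
    exact Subgroup.le_normalClosure)
  rw [← hR]
  apply (Subgroup.closure_le _).mpr
  intro z hz
  obtain ⟨a, ⟨⟨a', ha'N⟩, ha', rfl⟩, hc⟩ := Group.mem_conjugatesOfSet_iff.mp hz
  obtain ⟨g, rfl⟩ := isConj_iff.mp hc
  let φ : N ≃* N := MulAut.conjNormal g
  have h1 : Function.Surjective φ.toMonoidHom := φ.surjective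
  have hle := ih _ hlt rfl (S.subgroupOf N) (M₁.map φ.toMonoidHom) hS.subgroupOf (hM₁n.map _ h1)
    (by rwa [Ne, Subgroup.map_eq_bot_iff_of_injective _ (f := φ.toMonoidHom) φ.injective])
    (fun L hLn hL => by
      rcases hM₁min (L.comap φ.toMonoidHom) (hLn.comap _) (by
        exact (Subgroup.comap_mono hL).trans
          (le_of_eq (Subgroup.comap_map_eq_self_of_injective φ.injective M₁))) with h | h
      · left
        rw [← Subgroup.map_comap_eq_self_of_surjective h1 L, h, Subgroup.map_bot]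
      · right
        rw [← Subgroup.map_comap_eq_self_of_surjective h1 L, h])
  have hmem : φ ⟨a', ha'N⟩ ∈ Subgroup.normalizer ((S.subgroupOf N : Subgroup N) : Set N) :=
    hle (Subgroup.mem_map_of_mem _ ha')
  rw [← Subgroup.subgroupOf_normalizer_eq hSN, Subgroup.mem_subgroupOf] at hmem
  simpa [φ] using hmem

/-- A minimal normal subgroup normalises every subnormal subgroup. -/
theorem le_normalizer_of_isSubnormal [Finite G] {S M : Subgroup G} (hS : S.IsSubnormal) [M.Normal]
    (hM : M ≠ ⊥) (hmin : ∀ L : Subgroup G, L.Normal → L ≤ M → L = ⊥ ∨ L = M) :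
    M ≤ Subgroup.normalizer (S : Set G) :=
  le_normalizer_of_isSubnormal_aux _ rfl S M hS inferInstance hM hmin

theorem isSubnormal_sup_aux :
    ∀ (n : ℕ) {G : Type*} [Group G] [Finite G], Nat.card G = n →
      ∀ (S T : Subgroup G), S.IsSubnormal → T.IsSubnormal → (S ⊔ T).IsSubnormal := by
  intro n
  induction n using Nat.strongRecOn with | ind n ih => ?_
  intro G _ _ hn S T hS hT
  by_cases hG : (⊤ : Subgroup G) = ⊥
  · rw [show S ⊔ T = ⊥ from le_bot_iff.mp (hG ▸ le_top)]
    exact Subgroup.IsSubnormal.bot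
  obtain ⟨M, hMn, _, hM, hmin⟩ := Cfsg.Agent.Solvable.Basics.exists_minimal_normal hG
  have hlt : Nat.card (G ⧸ M) < n := by
    rw [← hn, Subgroup.card_eq_card_quotient_mul_card_subgroup M]
    exact lt_mul_of_one_lt_right Nat.card_pos ((Subgroup.one_lt_card_iff_ne_bot _).mpr hM)
  have h := (ih _ hlt rfl _ _ (hS.quotient (K := M)) (hT.quotient (K := M))).comap
    (QuotientGroup.mk' M)
  rw [← Subgroup.map_sup, Subgroup.comap_map_eq, QuotientGroup.ker_mk'] at h
  refine Subgroup.IsSubnormal.step _ _ le_sup_left h ?_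
  rw [Subgroup.normal_subgroupOf_iff_le_normalizer le_sup_left]
  refine sup_le Subgroup.le_normalizer ?_
  intro m hm
  rw [← conj_smul_eq_self_iff, Subgroup.smul_sup,
    conj_smul_eq_self_iff.mpr (le_normalizer_of_isSubnormal hS hM hmin hm),
    conj_smul_eq_self_iff.mpr (le_normalizer_of_isSubnormal hT hM hmin hm)]

/-- **Wielandt**: the join of two subnormal subgroups of a finite group is subnormal. -/
theorem isSubnormal_sup [Finite G] {S T : Subgroup G} (hS : S.IsSubnormal) (hT : T.IsSubnormal) :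
    (S ⊔ T).IsSubnormal :=
  isSubnormal_sup_aux _ rfl S T hS hT

theorem normal_or_exists_conj_le {S : Subgroup G} {R : Subgroup G} (hR : R.IsSubnormal)
    (hSR : R ≤ Subgroup.normalizer (S : Set G)) :
    S.Normal ∨ ∃ x : G, x ∉ Subgroup.normalizer (S : Set G) ∧
      (S ≤ R → MulAut.conj x • S ≤ Subgroup.normalizer (S : Set G)) := by
  induction hR with
  | top => exact Or.inl (Subgroup.normalizer_eq_top_iff.mp (top_le_iff.mp hSR))
  | step R R' hle _ hn ih =>
    by_cases h : R' ≤ Subgroup.normalizer (S : Set G)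
    · rcases ih h with h1 | ⟨x, hx, hx'⟩
      · exact Or.inl h1
      · exact Or.inr ⟨x, hx, fun hS => hx' (hS.trans hle)⟩
    · obtain ⟨x, hxR, hx⟩ := SetLike.not_le_iff_exists.mp h
      refine Or.inr ⟨x, hx, fun hS => le_trans ?_ hSR⟩
      rw [← conj_smul_eq_self_iff.mpr ((Subgroup.le_normalizer_of_normal_subgroupOf hle) hxR)]
      exact Subgroup.pointwise_smul_le_pointwise_smul_iff.mpr hS

theorem isSubnormal_subgroupOf_conj {S L : Subgroup G} (x : G)
    (h : (S.subgroupOf (MulAut.conj x⁻¹ • L)).IsSubnormal) :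
    ((MulAut.conj x • S).subgroupOf L).IsSubnormal := by
  let f : L →* (MulAut.conj x⁻¹ • L : Subgroup G) :=
    ((MulAut.conj x⁻¹).toMonoidHom.comp L.subtype).codRestrict _
      fun y => by simpa using conj_mem_conj_smul (g := x⁻¹) y.2
  have heq : (MulAut.conj x • S).subgroupOf L = (S.subgroupOf (MulAut.conj x⁻¹ • L)).comap f := by
    ext y
    simp [f, Subgroup.mem_subgroupOf, mem_conj_smul]
  rw [heq]
  exact h.comap f

/-- **Wielandt's zipper lemma.** -/
theorem zipper [Finite G] :
    ∀ (S : Subgroup G), ¬ S.IsSubnormal →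
      (∀ L : Subgroup G, S ≤ L → L ≠ ⊤ → (S.subgroupOf L).IsSubnormal) →
      ∀ K M : Subgroup G, IsCoatom K → IsCoatom M → S ≤ K → S ≤ M → K = M := by
  intro S
  induction S using WellFoundedGT.induction with | ind S ih => ?_
  intro hS hsub
  have hne : Subgroup.normalizer (S : Set G) ≠ ⊤ := fun h =>
    hS (Subgroup.normalizer_eq_top_iff.mp h).isSubnormal
  obtain ⟨M₀, hM₀, hHM⟩ := (eq_top_or_exists_le_coatom _).resolve_left hne
  suffices key : ∀ K : Subgroup G, IsCoatom K → S ≤ K → K = M₀ from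
    fun K M hK hM hSK hSM => (key K hK hSK).trans (key M hM hSM).symm
  intro K hK hSK
  by_cases hKH : K ≤ Subgroup.normalizer (S : Set G)
  · exact (hK.le_iff_eq hM₀.1).mp (hKH.trans hHM) |>.symm
  obtain ⟨x, hxK, hxS, hxle⟩ : ∃ x ∈ K, x ∉ Subgroup.normalizer (S : Set G) ∧
      MulAut.conj x • S ≤ Subgroup.normalizer (S : Set G) := by
    rcases normal_or_exists_conj_le (S := S.subgroupOf K) (hsub K hSK hK.1)
      Subgroup.le_normalizer with h | ⟨x, hx, hx'⟩
    · exact absurd (Subgroup.le_normalizer_of_normal_subgroupOf hSK) hKH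
    · have hx'' : (x : G) ∉ Subgroup.normalizer (S : Set G) := fun h =>
        hx (by rw [← Subgroup.subgroupOf_normalizer_eq hSK]; exact h)
      refine ⟨x, x.2, hx'', ?_⟩
      intro y hy
      rw [mem_conj_smul] at hy
      have hyK : y ∈ K := by
        simpa [mul_assoc] using mul_mem (mul_mem x.2 (hSK hy)) (inv_mem x.2)
      have h2 : (⟨y, hyK⟩ : K) ∈ MulAut.conj x • S.subgroupOf K := by
        rw [mem_conj_smul]
        exact hy
      have h3 := hx' le_rfl h2
      rw [← Subgroup.subgroupOf_normalizer_eq hSK] at h3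
      exact h3
  let T := S ⊔ MulAut.conj x • S
  have hTK : T ≤ K := sup_le hSK
    ((Subgroup.pointwise_smul_le_pointwise_smul_iff.mpr hSK).trans
      (le_of_eq (Subgroup.conj_smul_eq_self_of_mem hxK)))
  have hTH : T ≤ Subgroup.normalizer (S : Set G) := sup_le Subgroup.le_normalizer hxle
  have hlt : S < T := by
    refine lt_of_le_of_ne le_sup_left fun h => hxS (conj_smul_eq_self_iff.mp ?_)
    refine Subgroup.eq_of_le_of_card_ge ?_ (card_conj_smul x S).ge
    exact (le_sup_right : MulAut.conj x • S ≤ T).trans h.ge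
  have hTn : ¬ T.IsSubnormal := fun h => hS (Subgroup.IsSubnormal.step _ _ hlt.le h
    ((Subgroup.normal_subgroupOf_iff_le_normalizer hlt.le).mpr hTH))
  refine ih T hlt hTn (fun L hTL hL => ?_) K M₀ hK hM₀ hTK (hTH.trans hHM)
  rw [Subgroup.subgroupOf_sup ((le_sup_left : S ≤ T).trans hTL)
    ((le_sup_right : MulAut.conj x • S ≤ T).trans hTL)]
  refine isSubnormal_sup (hsub L ((le_sup_left : S ≤ T).trans hTL) hL)
    (isSubnormal_subgroupOf_conj x (hsub _ ?_ ?_))
  · rw [← conj_inv_smul_smul x S]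
    exact Subgroup.pointwise_smul_le_pointwise_smul_iff.mpr
      ((le_sup_right : MulAut.conj x • S ≤ T).trans hTL)
  · intro h
    refine hL (eq_top_iff.mpr fun y _ => ?_)
    have : x⁻¹ * y * x ∈ MulAut.conj x⁻¹ • L := h ▸ Subgroup.mem_top _
    rw [mem_conj_smul] at this
    simpa [mul_assoc] using this

theorem isSubnormal_of_conj_aux :
    ∀ (n : ℕ) {G : Type*} [Group G] [Finite G], Nat.card G = n → ∀ A : Subgroup G,
      (∀ g : G, (A.subgroupOf (A ⊔ MulAut.conj g • A)).IsSubnormal) → A.IsSubnormal := by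
  intro n
  induction n using Nat.strongRecOn with | ind n ih => ?_
  intro G _ _ hn A h
  by_contra hA
  have hsub : ∀ L : Subgroup G, A ≤ L → L ≠ ⊤ → (A.subgroupOf L).IsSubnormal := by
    intro L hAL hL
    have hlt : Nat.card L < n := hn ▸ lt_of_le_of_ne (Subgroup.card_le_card_group L)
      fun h => hL (Subgroup.eq_top_of_card_eq L h)
    refine ih _ hlt rfl _ fun g => ?_
    rw [Subgroup.conj_smul_subgroupOf hAL g]
    have hle : MulAut.conj (g : G) • A ≤ L :=
      (Subgroup.pointwise_smul_le_pointwise_smul_iff.mpr hAL).trans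
        (le_of_eq (Subgroup.conj_smul_eq_self_of_mem g.2))
    rw [← Subgroup.subgroupOf_sup hAL hle]
    let f : (A ⊔ MulAut.conj (g : G) • A).subgroupOf L →* ↥(A ⊔ MulAut.conj (g : G) • A) :=
      (L.subtype.comp (Subgroup.subtype _)).codRestrict _ fun y => y.2
    exact (h g).comap f
  have hAtop : A ≠ ⊤ := fun h => hA (h ▸ Subgroup.IsSubnormal.top)
  obtain ⟨M, hM, hAM⟩ := (eq_top_or_exists_le_coatom A).resolve_left hAtop
  have hall : ∀ g : G, MulAut.conj g • A ≤ M := by
    intro g
    by_cases htop : A ⊔ MulAut.conj g • A = ⊤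
    · exact absurd ((h g).trans le_sup_left (htop ▸ Subgroup.IsSubnormal.top)) hA
    obtain ⟨K, hK, hle⟩ := (eq_top_or_exists_le_coatom _).resolve_left htop
    rw [← zipper A hA hsub K M hK hM (le_sup_left.trans hle) hAM]
    exact le_sup_right.trans hle
  let C := Subgroup.normalClosure (A : Set G)
  have hCM : C ≤ M := by
    apply (Subgroup.closure_le _).mpr
    intro z hz
    obtain ⟨a, ha, hc⟩ := Group.mem_conjugatesOfSet_iff.mp hz
    obtain ⟨g, rfl⟩ := isConj_iff.mp hc
    exact hall g (conj_mem_conj_smul ha)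
  exact hA ((hsub C Subgroup.le_normalClosure fun h => hM.1 (top_le_iff.mp (h ▸ hCM))).trans
    Subgroup.le_normalClosure (Subgroup.normalClosure_normal (s := (A : Set G))).isSubnormal)

/-- **Wielandt**: if `A` is subnormal in `⟨A, Aᵍ⟩` for all `g` then it is subnormal. -/
theorem isSubnormal_of_conj [Finite G] {A : Subgroup G}
    (h : ∀ g : G, (A.subgroupOf (A ⊔ MulAut.conj g • A)).IsSubnormal) : A.IsSubnormal :=
  isSubnormal_of_conj_aux _ rfl A h

end Cfsg.Agent.Subnormal.Join
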